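import Cfsg.Agent.Lib.AltCent.Hecke.Cert

/-!
The subgroups of the certificates are not solvable.
-/

set_option autoImplicit false

namespace CfsgLib.AltCent.Hecke

open Equiv
open scoped commutatorElement

/-- The value of a word in two elements. -/
def evalW {G : Type*} [_root_.Group G] (a b : G) (w : List Bool) : G :=
  w.foldr (fun t x => (if t then b else a) * x) 1

/-- Words whose commutators give the two generators. -/
def mWords : List ((List Bool × List Bool) × (List Bool × List Bool)) := [
  (([true], [true, false, true, false]), ([false, false], [false, true, false, true])),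
  (([true, true, false], [true, true]), ([false, false, true], [false, false])),
  (([true, false, false], [true, false]), ([false, true], [false, true, false, false])),
  (([true], [true, true, false, false, true, false, false]), ([false, false, true, false], [false, false, true])),
  (([true], [false, false, true, false]), ([false], [true, true, false, true])),
  (([true, false], [false, false, true, false, false]), ([true, false], [true, true, true, false, true])),
  (([true, false, false, true, false, true, true], [false]), ([false, true, true, false], [true])),
  (([true, false, true], [false, false, true]), ([false, true, false, false, false, true, false], [true]))]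

/-- The first generator of a listed subgroup. -/
def genA (i : ℕ) : Perm (Fin 10) := permOf (mGens.getD i (0, 0)).1

/-- The second generator of a listed subgroup. -/
def genB (i : ℕ) : Perm (Fin 10) := permOf (mGens.getD i (0, 0)).2

theorem perfect_facts : ((List.range mGens.length).all fun i =>
    let w := mWords.getD i (([], []), ([], []))
    decide (⁅evalW (genA i) (genB i) w.1.1, evalW (genA i) (genB i) w.1.2⁆ = genA i) &&
    decide (⁅evalW (genA i) (genB i) w.2.1, evalW (genA i) (genB i) w.2.2⁆ = genB i) &&
    decide (genA i ≠ 1)) = true := by decide +kernel

/-- Two elements that are commutators of words in themselves generate a non-solvable group. -/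
theorem not_isSolvable_closure {G : Type*} [_root_.Group G] {a b : G} {w : (List Bool × List Bool) × (List Bool × List Bool)}
    (ha : ⁅evalW a b w.1.1, evalW a b w.1.2⁆ = a) (hb : ⁅evalW a b w.2.1, evalW a b w.2.2⁆ = b)
    (h1 : a ≠ 1) : ¬ _root_.Group.IsSolvable (Subgroup.closure ({a, b} : Set G)) := by
  set X := Subgroup.closure ({a, b} : Set G) with hX
  have hmem : ∀ v, evalW a b v ∈ X := by
    intro v
    induction v with
    | nil => exact one_mem _
    | cons t v ih =>
      refine mul_mem ?_ ih
      cases t
      · exact Subgroup.subset_closure (by simp)
      · exact Subgroup.subset_closure (by simp)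
  have hle : X ≤ ⁅X, X⁆ := by
    have ga : a ∈ ⁅X, X⁆ := by
      have := Subgroup.commutator_mem_commutator (hmem w.1.1) (hmem w.1.2)
      rwa [ha] at this
    have gb : b ∈ ⁅X, X⁆ := by
      have := Subgroup.commutator_mem_commutator (hmem w.2.1) (hmem w.2.2)
      rwa [hb] at this
    refine (Subgroup.closure_le _).2 ?_
    intro x hx
    rcases hx with h | h
    · rw [SetLike.mem_coe, h]; exact ga
    · rw [Set.mem_singleton_iff] at h
      rw [SetLike.mem_coe, h]; exact gb
  haveI : Nontrivial X :=
    ⟨⟨⟨a, Subgroup.subset_closure (by simp)⟩, 1, fun h => h1 (congrArg Subtype.val h)⟩⟩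
  haveI : _root_.Group.IsPerfect X := ⟨by
    refine Subgroup.map_injective X.subtype_injective ?_
    rw [Subgroup.map_subtype_commutator, ← MonoidHom.range_eq_map, Subgroup.range_subtype]
    exact le_antisymm (Subgroup.commutator_le.2 fun x hx y hy =>
      mul_mem (mul_mem (mul_mem hx hy) (inv_mem hx)) (inv_mem hy)) hle⟩
  exact _root_.Group.IsPerfect.not_isSolvable _

theorem not_isSolvable_listed {i : ℕ} (hi : i < mGens.length) :
    ¬ _root_.Group.IsSolvable (Subgroup.closure ({genA i, genB i} : Set (Perm (Fin 10)))) := by
  have h := perfect_facts
  simp only [List.all_eq_true, List.mem_range, Bool.and_eq_true, decide_eq_true_eq] at h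
  obtain ⟨⟨ha, hb⟩, h1⟩ := h i hi
  exact not_isSolvable_closure ha hb h1

end CfsgLib.AltCent.Hecke
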