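import Cfsg.Agent.Lib.AltCent.Hecke.Cert

/-!
Certificate number 2.
-/

set_option autoImplicit false

namespace CfsgLib.AltCent.Hecke

def case2 : Case where
  lam := 4
  e1 := 1
  e2 := 1
  dead := []
  groups := [
  ⟨0, 242015625735, [0, 5, 9, 41, 43, 47], [0, 96, 48, 136, 88, 40], [0, 1, 2, 6, 12, 13, 14, 15, 16, 17], [0, 1, 2, 12, 11, 10, 3, 13, 23, 20, 22, 21, 4, 5, 6, 7, 8, 9, 35, 36, 34, 38, 39, 37, 16, 15, 14, 48, 47, 49, 45, 44, 46, 17, 19, 18, 33, 43, 53, 31, 32, 30, 41, 40, 42, 51, 52, 50, 24, 26, 25, 27, 29, 28, 58, 59, 57, 55, 56, 54],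
    [⟨4, 14, 16, [(8, 62, 83), (16, 62, 87), (56, 62, 91), (16, 62, 95), (60, 62, 131), (0, 0, 79), (12, 62, 115), (60, 62, 139), (76, 62, 35), (4, 62, 63)]⟩]⟩,
  ⟨2, 508303515960, [0, 1, 2, 12, 13, 14], [0, 64, 128, 89, 105, 25], [0, 3, 4, 5, 24, 25, 26, 30, 31, 32], [0, 10, 20, 1, 2, 3, 11, 13, 12, 21, 22, 23, 30, 40, 50, 31, 33, 32, 41, 42, 43, 51, 53, 52, 4, 5, 6, 34, 36, 35, 7, 8, 9, 38, 37, 39, 14, 16, 15, 44, 45, 46, 48, 47, 49, 17, 18, 19, 24, 25, 26, 54, 56, 55, 27, 28, 29, 58, 57, 59],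
    [⟨2, 28, 27, [(1, 8, 108), (64, 124, 96), (0, 124, 25), (25, 8, 109), (113, 63, 129), (8, 62, 115), (121, 63, 9), (104, 118, 15), (121, 63, 128), (120, 63, 8)]⟩]⟩,
  ⟨0, 550716712215, [0, 8, 29, 30, 51, 59], [0, 104, 16, 120, 32, 136], [0, 1, 2, 3, 4, 5, 12, 13, 14, 18], [0, 1, 2, 3, 4, 5, 11, 12, 10, 14, 15, 13, 6, 7, 8, 28, 27, 26, 9, 29, 49, 46, 48, 47, 34, 33, 35, 22, 21, 20, 30, 31, 32, 25, 23, 24, 17, 18, 16, 19, 39, 59, 36, 37, 38, 58, 57, 56, 43, 45, 44, 40, 42, 41, 55, 54, 53, 52, 51, 50],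
    [⟨2, 22, 23, [(16, 63, 96), (26, 115, 107), (47, 63, 63), (74, 12, 54), (26, 12, 46), (1, 12, 81), (91, 63, 119), (10, 8, 142), (68, 63, 72), (125, 12, 9)]⟩,
    ⟨1, 9, 13, [(4, 63, 23), (11, 63, 88), (30, 12, 65), (69, 12, 142), (34, 8, 121), (61, 12, 102), (30, 12, 25), (4, 63, 15), (11, 63, 128), (1, 115, 123)]⟩,
    ⟨3, 25, 7, [(6, 118, 41), (52, 125, 9), (22, 134, 41), (6, 118, 43), (22, 134, 40), (52, 125, 10), (118, 128, 54), (134, 128, 55), (102, 128, 52), (134, 128, 53)]⟩,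
    ⟨4, 0, 14, [(33, 2, 70), (25, 121, 69), (140, 30, 54), (124, 30, 53), (49, 124, 119), (4, 30, 52), (140, 30, 55), (33, 2, 71), (25, 121, 68), (57, 124, 117)]⟩,
    ⟨2, 9, 3, [(129, 30, 51), (56, 2, 64), (73, 30, 49), (112, 124, 112), (48, 121, 66), (121, 30, 48), (28, 124, 115), (77, 30, 50), (100, 121, 64), (124, 2, 65)]⟩,
    ⟨4, 30, 30, [(28, 134, 78), (28, 118, 78), (36, 128, 42), (8, 118, 77), (136, 128, 40), (32, 134, 76), (2, 125, 93), (128, 128, 41), (72, 128, 43), (22, 125, 94)]⟩]⟩,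
  ⟨1, 247033374465, [0, 5, 11, 15, 30, 32], [0, 72, 40, 112, 80, 104], [0, 1, 2, 3, 6, 20, 21, 22, 26, 27], [0, 1, 2, 3, 11, 10, 4, 14, 13, 12, 21, 20, 24, 34, 31, 30, 22, 23, 32, 33, 5, 6, 7, 57, 55, 56, 8, 9, 58, 59, 40, 41, 50, 51, 52, 53, 42, 43, 44, 54, 27, 47, 25, 26, 28, 29, 45, 46, 48, 49, 16, 15, 35, 36, 38, 39, 17, 37, 18, 19],
    [⟨4, 20, 2, [(113, 12, 72), (73, 115, 61), (66, 12, 135), (86, 12, 111), (119, 63, 30), (60, 63, 137), (127, 63, 6), (80, 63, 81), (18, 8, 87), (141, 12, 16)]⟩,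
    ⟨1, 13, 4, [(31, 115, 132), (26, 63, 104), (0, 8, 134), (27, 12, 89), (97, 63, 127), (100, 12, 62), (58, 63, 64), (92, 12, 38), (121, 63, 55), (19, 12, 1)]⟩,
    ⟨2, 15, 11, [(56, 30, 85), (57, 2, 52), (48, 30, 86), (132, 30, 84), (61, 124, 101), (65, 121, 53), (37, 124, 103), (13, 121, 52), (17, 2, 55), (52, 30, 87)]⟩,
    ⟨1, 25, 20, [(48, 121, 143), (9, 30, 126), (101, 30, 124), (97, 30, 127), (52, 2, 143), (60, 2, 142), (8, 124, 44), (44, 124, 46), (69, 30, 125), (24, 121, 142)]⟩,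
    ⟨4, 3, 12, [(20, 134, 31), (36, 118, 31), (40, 134, 29), (72, 128, 8), (82, 125, 44), (60, 128, 10), (28, 118, 29), (132, 128, 9), (34, 125, 45), (112, 128, 11)]⟩,
    ⟨2, 25, 4, [(4, 125, 60), (90, 128, 89), (86, 128, 90), (66, 128, 88), (10, 134, 92), (26, 134, 94), (78, 118, 92), (98, 118, 95), (6, 128, 91), (68, 125, 63)]⟩]⟩]

theorem case2_ok : case2.check = true := by decide +kernel

end CfsgLib.AltCent.Hecke
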