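import Cfsg.Agent.Lib.AltCent.Hecke.Sound
import Cfsg.Agent.Lib.AltCent.Hecke.Case0
import Cfsg.Agent.Lib.AltCent.Hecke.Case1
import Cfsg.Agent.Lib.AltCent.Hecke.Case2
import Cfsg.Agent.Lib.AltCent.Hecke.Case3
import Cfsg.Agent.Lib.AltCent.Hecke.Case4
import Cfsg.Agent.Lib.AltCent.Hecke.Case5

/-!
In a non-zero module of the alternating group of degree ten in characteristic five, one of the
listed non-solvable subgroups fixes a non-zero vector.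
-/

set_option autoImplicit false

namespace CfsgLib.AltCent.Hecke

open Equiv

/-- The action extended to all of the symmetric group is multiplicative on even permutations. -/
theorem AMod.apply_eq {A : Type*} [AddCommGroup A] (M : AMod A) {σ τ μ : Perm (Fin 10)}
    (hσ : Perm.sign σ = 1) (hτ : Perm.sign τ = 1) (h : σ * τ = μ) (a : A) :
    M.ρ σ (M.ρ τ a) = M.ρ μ a := by rw [← M.mul σ τ hσ hτ, h]

theorem AMod.swap_eq {A : Type*} [AddCommGroup A] (M : AMod A) {σ τ σ' τ' : Perm (Fin 10)}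
    (hσ : Perm.sign σ = 1) (hτ : Perm.sign τ = 1) (hσ' : Perm.sign σ' = 1)
    (hτ' : Perm.sign τ' = 1) (h : σ * τ = τ' * σ') (a : A) :
    M.ρ σ (M.ρ τ a) = M.ρ τ' (M.ρ σ' a) := by rw [← M.mul σ τ hσ hτ, h, M.mul τ' σ' hτ' hσ']

theorem AMod.eq_zero_of_two {A : Type*} [AddCommGroup A] (M : AMod A) {a : A}
    (h : (2 : ℕ) • a = 0) : a = 0 := by
  rw [← one_smul ℕ a, M.smul_congr (m := 3 * 2) (by norm_num), mul_smul, h, smul_zero]

/-- Either a three-cycle fixes something or the four-group that it normalises acts trivially. -/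
theorem fixed_or_trivial {A : Type*} [AddCommGroup A] (M : AMod A) (S : AddSubgroup A)
    {s k k' : Perm (Fin 10)}
    (hs : Perm.sign s = 1) (hk : Perm.sign k = 1) (hk' : Perm.sign k' = 1)
    (hsS : ∀ a ∈ S, M.ρ s a ∈ S) (hkS : ∀ a ∈ S, M.ρ k a ∈ S) (hk'S : ∀ a ∈ S, M.ρ k' a ∈ S)
    (h3 : s * (s * s) = 1) (hkk : k * k = 1) (hk2 : k' * k' = 1) (hc : k * k' = k' * k)
    (h1 : k' * s = s * k) (h2 : k * s = s * (k * k'))
    (hnf : ∀ b ∈ S, M.ρ s b = b → b = 0) : ∀ a ∈ S, M.ρ k a = a := by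
  intro a ha
  have hss : Perm.sign (s * s) = 1 := sign_mul_one hs hs
  have e1 : ∀ b, M.ρ k' (M.ρ s b) = M.ρ s (M.ρ k b) := fun b => M.swap_eq hk' hs hk hs h1 b
  have e2 : ∀ b, M.ρ k (M.ρ s b) = M.ρ s (M.ρ k (M.ρ k' b)) := fun b => by
    rw [← M.mul k k' hk hk', M.swap_eq hk hs (sign_mul_one hk hk') hs h2 b]
  have e3 : ∀ b, M.ρ k (M.ρ k' b) = M.ρ k' (M.ρ k b) := fun b => M.swap_eq hk hk' hk hk' hc b
  have e4 : ∀ b, M.ρ k' (M.ρ k' b) = b := fun b => by rw [M.apply_eq hk' hk' hk2, M.one]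
  have e5 : ∀ b, M.ρ s (M.ρ s (M.ρ s b)) = b := fun b => by
    rw [M.apply_eq hs hs rfl, M.apply_eq hss hs rfl, mul_assoc, h3, M.one]
  have hw : ∀ d ∈ S, d + M.ρ s d + M.ρ s (M.ρ s d) = 0 := fun d hd => by
    refine hnf _ (add_mem (add_mem hd (hsS _ hd)) (hsS _ (hsS _ hd))) ?_
    rw [map_add, map_add, e5]
    abel
  set d := a - M.ρ k a with hd
  have hdS : d ∈ S := sub_mem ha (hkS _ ha)
  have hkd : M.ρ k d = -d := by
    rw [hd, map_sub, M.apply_eq hk hk hkk, M.one, neg_sub]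
  set d₁ := d + M.ρ k' d with hd1
  set d₂ := d - M.ρ k' d with hd2
  have hd1S : d₁ ∈ S := add_mem hdS (hk'S _ hdS)
  have hd2S : d₂ ∈ S := sub_mem hdS (hk'S _ hdS)
  have a1 : M.ρ k' d₁ = d₁ := by rw [hd1, map_add, e4, add_comm]
  have b1 : M.ρ k d₁ = -d₁ := by rw [hd1, map_add, hkd, e3, hkd, map_neg, neg_add]
  have a2 : M.ρ k' d₂ = -d₂ := by rw [hd2, map_sub, e4, neg_sub]
  have b2 : M.ρ k d₂ = -d₂ := by
    rw [hd2, map_sub, hkd, e3, hkd, map_neg, neg_sub_neg, neg_sub]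
  have z1 : d₁ = 0 := by
    refine M.eq_zero_of_two ?_
    have h := hw d₁ hd1S
    have c1 : M.ρ k' (M.ρ s d₁) = -M.ρ s d₁ := by rw [e1, b1, map_neg]
    have c2 : M.ρ k' (M.ρ s (M.ρ s d₁)) = -M.ρ s (M.ρ s d₁) := by
      rw [e1, e2, a1, b1, map_neg, map_neg]
    have h' := congrArg (M.ρ k') h
    rw [map_add, map_add, map_zero, a1, c1, c2] at h'
    have : (d₁ + M.ρ s d₁ + M.ρ s (M.ρ s d₁)) + (d₁ + -M.ρ s d₁ + -M.ρ s (M.ρ s d₁)) = 0 := by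
      rw [h, h', add_zero]
    rw [← this, two_nsmul]
    abel
  have z2 : d₂ = 0 := by
    refine M.eq_zero_of_two ?_
    have h := hw d₂ hd2S
    have c1 : M.ρ k' (M.ρ s d₂) = -M.ρ s d₂ := by rw [e1, b2, map_neg]
    have c2 : M.ρ k' (M.ρ s (M.ρ s d₂)) = M.ρ s (M.ρ s d₂) := by
      rw [e1, e2, a2, map_neg, b2, neg_neg]
    have h' := congrArg (M.ρ k') h
    rw [map_add, map_add, map_zero, a2, c1, c2] at h'
    have h'' : M.ρ s (M.ρ s d₂) + M.ρ s (M.ρ s d₂) = 0 := by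
      have : (d₂ + M.ρ s d₂ + M.ρ s (M.ρ s d₂)) + (-d₂ + -M.ρ s d₂ + M.ρ s (M.ρ s d₂)) = 0 := by
        rw [h, h', add_zero]
      rw [← this]; abel
    have h3' := congrArg (M.ρ s) h''
    rw [map_add, e5, map_zero] at h3'
    rwa [two_nsmul]
  have h0 : (2 : ℕ) • d = 0 := by
    have : d₁ + d₂ = 0 := by rw [z1, z2, add_zero]
    rw [← this, hd1, hd2, two_nsmul]; abel
  exact (sub_eq_zero.1 (M.eq_zero_of_two h0)).symm

/-- A three-cycle of a five-point block fixes something in every invariant non-zero subgroup. -/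
theorem exists_fixed_three {A : Type*} [AddCommGroup A] (M : AMod A) (S : AddSubgroup A)
    {c s₁ k₁ k₁' n₁ s₂ k₂ k₂' n₂ : Perm (Fin 10)}
    (hev : ∀ σ ∈ [c, s₁, k₁, k₁', n₁, s₂, k₂, k₂', n₂], Perm.sign σ = 1)
    (hst : ∀ σ ∈ [c, s₁, k₁, k₁', n₁, s₂, k₂, k₂', n₂], ∀ a ∈ S, M.ρ σ a ∈ S)
    (f1 : s₁ * (s₁ * s₁) = 1 ∧ k₁ * k₁ = 1 ∧ k₁' * k₁' = 1 ∧ k₁ * k₁' = k₁' * k₁ ∧
      k₁' * s₁ = s₁ * k₁ ∧ k₁ * s₁ = s₁ * (k₁ * k₁') ∧ c * n₁ = n₁ * s₁)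
    (f2 : s₂ * (s₂ * s₂) = 1 ∧ k₂ * k₂ = 1 ∧ k₂' * k₂' = 1 ∧ k₂ * k₂' = k₂' * k₂ ∧
      k₂' * s₂ = s₂ * k₂ ∧ k₂ * s₂ = s₂ * (k₂ * k₂') ∧ c * n₂ = n₂ * s₂)
    (f3 : k₁ * k₂ = c) (hn₁ : Function.Injective (M.ρ n₁)) (hn₂ : Function.Injective (M.ρ n₂))
    (hS : ∃ a ∈ S, a ≠ 0) : ∃ a ∈ S, a ≠ 0 ∧ M.ρ c a = a := by
  simp only [List.mem_cons, List.not_mem_nil, or_false, forall_eq_or_imp, forall_eq] at hev hst
  obtain ⟨ec, es1, ek1, ek1', en1, es2, ek2, ek2', en2⟩ := hev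
  obtain ⟨tc, ts1, tk1, tk1', tn1, ts2, tk2, tk2', tn2⟩ := hst
  by_contra hno
  push Not at hno
  have nf : ∀ b ∈ S, M.ρ c b = b → b = 0 := fun b hb hcb => by
    by_contra hb0; exact hno b hb hb0 hcb
  have nf1 : ∀ b ∈ S, M.ρ s₁ b = b → b = 0 := fun b hb hsb => by
    refine hn₁ ?_
    rw [map_zero]
    exact nf _ (tn1 _ hb) (by rw [M.swap_eq ec en1 es1 en1 f1.2.2.2.2.2.2, hsb])
  have nf2 : ∀ b ∈ S, M.ρ s₂ b = b → b = 0 := fun b hb hsb => by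
    refine hn₂ ?_
    rw [map_zero]
    exact nf _ (tn2 _ hb) (by rw [M.swap_eq ec en2 es2 en2 f2.2.2.2.2.2.2, hsb])
  have T1 := fixed_or_trivial M S es1 ek1 ek1' ts1 tk1 tk1' f1.1 f1.2.1 f1.2.2.1 f1.2.2.2.1
    f1.2.2.2.2.1 f1.2.2.2.2.2.1 nf1
  have T2 := fixed_or_trivial M S es2 ek2 ek2' ts2 tk2 tk2' f2.1 f2.2.1 f2.2.2.1 f2.2.2.2.1
    f2.2.2.2.2.1 f2.2.2.2.2.2.1 nf2
  obtain ⟨a, ha, ha0⟩ := hS
  exact hno a ha ha0 (by rw [← M.apply_eq ek1 ek2 f3, T2 a ha, T1 a ha])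

theorem AMod.injective {A : Type*} [AddCommGroup A] (M : AMod A) {σ : Perm (Fin 10)}
    (h : Perm.sign σ = 1) : Function.Injective (M.ρ σ) := fun a b hab => by
  have h' : Perm.sign σ⁻¹ = 1 := by rw [Perm.sign_inv, h]
  have := congrArg (M.ρ σ⁻¹) hab
  rwa [M.apply_eq h' h (inv_mul_cancel σ), M.one, M.apply_eq h' h (inv_mul_cancel σ), M.one] at this

/-- The first three-cycle. -/
def gc₁ : Perm (Fin 10) := permOf (kAt 48)
/-- The second three-cycle. -/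
def gc₂ : Perm (Fin 10) := permOf (kAt 16)
/-- The element of order four. -/
def gq : Perm (Fin 10) := permOf (kAt 4)
/-- The first involution. -/
def gk₁ : Perm (Fin 10) := permOf (kAt 2)
/-- The second involution. -/
def gk₂ : Perm (Fin 10) := permOf (kAt 1)

variable {A : Type*} [AddCommGroup A] (M : AMod A)

theorem sign_g : Perm.sign gc₁ = 1 ∧ Perm.sign gc₂ = 1 ∧ Perm.sign gq = 1 ∧ Perm.sign gk₁ = 1 ∧
    Perm.sign gk₂ = 1 :=
  ⟨(rep_of_evenCode (dataSpec.kEven 48 (by norm_num))).2,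
    (rep_of_evenCode (dataSpec.kEven 16 (by norm_num))).2,
    (rep_of_evenCode (dataSpec.kEven 4 (by norm_num))).2,
    (rep_of_evenCode (dataSpec.kEven 2 (by norm_num))).2,
    (rep_of_evenCode (dataSpec.kEven 1 (by norm_num))).2⟩

/-- Auxiliary elements of the first block. -/
def aux₁ : List (Perm (Fin 10)) :=
  [654820257825, 654820131600, 654820196640, 654820119600, 654819991875, 654820131600,
    654820196370, 654820115475, 654819991875].map permOf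

/-- Auxiliary elements of the second block. -/
def aux₂ : List (Perm (Fin 10)) :=
  [654301213200, 573220074000, 589860975120, 505036419600, 504816218640, 573220074000,
    590380020240, 435830403600, 504816218640].map permOf

/-- An element conjugating the torus. -/
def gn : Perm (Fin 10) := permOf 654820196865

/-- An element permuting the involutions. -/
def gr : Perm (Fin 10) := permOf 633345688080

theorem aux₁_facts : (aux₁.all fun σ => decide (Perm.sign σ = 1)) = true ∧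
    (aux₁.all fun σ => decide (σ * gc₂ = gc₂ * σ)) = true ∧ aux₁.getD 0 1 = gc₁ := by
  decide +kernel

theorem aux₂_facts : (aux₂.all fun σ => decide (Perm.sign σ = 1)) = true ∧
    (aux₂.all fun σ => decide (σ * gc₁ = gc₁ * σ)) = true ∧ aux₂.getD 0 1 = gc₂ := by
  decide +kernel

/-- The relations needed for `exists_fixed_three`. -/
def relCheck (l : List (Perm (Fin 10))) : Bool :=
  let g := fun i => l.getD i 1
  decide (g 1 * (g 1 * g 1) = 1) && decide (g 2 * g 2 = 1) && decide (g 3 * g 3 = 1) &&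
  decide (g 2 * g 3 = g 3 * g 2) && decide (g 3 * g 1 = g 1 * g 2) &&
  decide (g 2 * g 1 = g 1 * (g 2 * g 3)) && decide (g 0 * g 4 = g 4 * g 1) &&
  decide (g 5 * (g 5 * g 5) = 1) && decide (g 6 * g 6 = 1) && decide (g 7 * g 7 = 1) &&
  decide (g 6 * g 7 = g 7 * g 6) && decide (g 7 * g 5 = g 5 * g 6) &&
  decide (g 6 * g 5 = g 5 * (g 6 * g 7)) && decide (g 0 * g 8 = g 8 * g 5) &&
  decide (g 2 * g 6 = g 0)

theorem relCheck_ok : relCheck aux₁ = true ∧ relCheck aux₂ = true := by decide +kernel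

theorem exists_fixed_of_list {A : Type*} [AddCommGroup A] (M : AMod A) (S : AddSubgroup A)
    {l : List (Perm (Fin 10))} (hl : l.length = 9) (hev : ∀ σ ∈ l, Perm.sign σ = 1)
    (hst : ∀ σ ∈ l, ∀ a ∈ S, M.ρ σ a ∈ S) (hrel : relCheck l = true) (hS : ∃ a ∈ S, a ≠ 0) :
    ∃ a ∈ S, a ≠ 0 ∧ M.ρ (l.getD 0 1) a = a := by
  simp only [relCheck, Bool.and_eq_true, decide_eq_true_eq] at hrel
  obtain ⟨⟨⟨⟨⟨⟨⟨⟨⟨⟨⟨⟨⟨⟨a1, a2⟩, a3⟩, a4⟩, a5⟩, a6⟩, a7⟩, b1⟩, b2⟩, b3⟩, b4⟩, b5⟩, b6⟩, b7⟩, c⟩ := hrel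
  have hm : ∀ i < 9, l.getD i 1 ∈ l := fun i hi => getD_mem _ _ (hl ▸ hi)
  refine exists_fixed_three M S (c := l.getD 0 1) (s₁ := l.getD 1 1) (k₁ := l.getD 2 1)
    (k₁' := l.getD 3 1) (n₁ := l.getD 4 1) (s₂ := l.getD 5 1) (k₂ := l.getD 6 1)
    (k₂' := l.getD 7 1) (n₂ := l.getD 8 1) ?_ ?_ ⟨a1, a2, a3, a4, a5, a6, a7⟩
    ⟨b1, b2, b3, b4, b5, b6, b7⟩ c (M.injective (hev _ (hm 4 (by norm_num))))
    (M.injective (hev _ (hm 8 (by norm_num)))) hS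
  · intro σ hσ
    fin_cases hσ <;> exact hev _ (hm _ (by norm_num))
  · intro σ hσ
    fin_cases hσ <;> exact hst _ (hm _ (by norm_num))

theorem exists_c33 (hA : ∃ a : A, a ≠ 0) :
    ∃ a : A, a ≠ 0 ∧ M.ρ gc₁ a = a ∧ M.ρ gc₂ a = a := by
  obtain ⟨a, ha⟩ := hA
  obtain ⟨h1, -, h2⟩ := aux₁_facts
  simp only [List.all_eq_true, decide_eq_true_eq] at h1
  obtain ⟨b, -, hb0, hb⟩ := exists_fixed_of_list M ⊤ (l := aux₁) rfl h1
    (fun _ _ _ _ => trivial) relCheck_ok.1 ⟨a, trivial, ha⟩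
  rw [h2] at hb
  let S : AddSubgroup A :=
    { carrier := {x | M.ρ gc₁ x = x}
      zero_mem' := map_zero _
      add_mem' := fun {x y} hx hy => by
        show M.ρ gc₁ (x + y) = x + y
        rw [map_add, show M.ρ gc₁ x = x from hx, show M.ρ gc₁ y = y from hy]
      neg_mem' := fun {x} hx => by
        show M.ρ gc₁ (-x) = -x
        rw [map_neg, show M.ρ gc₁ x = x from hx] }
  obtain ⟨h1', h3, h4⟩ := aux₂_facts
  simp only [List.all_eq_true, decide_eq_true_eq] at h1' h3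
  obtain ⟨c, hc1, hc0, hc⟩ := exists_fixed_of_list M S (l := aux₂) rfl h1'
    (fun σ hσ x hx => by
      show M.ρ gc₁ (M.ρ σ x) = M.ρ σ x
      rw [M.swap_eq sign_g.1 (h1' σ hσ) sign_g.1 (h1' σ hσ) (h3 σ hσ).symm,
        show M.ρ gc₁ x = x from hx])
    relCheck_ok.2 ⟨b, hb, hb0⟩
  exact ⟨c, hc0, hc1, h4 ▸ hc⟩

theorem conj_facts : Perm.sign gn = 1 ∧ Perm.sign gr = 1 ∧
    gc₁ * gn = gn * (gc₁ * gc₁) ∧ gc₂ * gn = gn * gc₂ ∧ gq * gn = gn * (gq * (gq * gq)) ∧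
    gk₁ * gn = gn * gk₁ ∧ gk₂ * gn = gn * (gk₁ * gk₂) ∧
    gc₁ * gr = gr * gc₁ ∧ gc₂ * gr = gr * gc₂ ∧ gq * gr = gr * gq ∧
    gk₁ * gr = gr * gk₂ ∧ gk₂ * gr = gr * (gk₁ * gk₂) := by decide +kernel

theorem torus_facts : gc₁ * gq = gq * (gc₂ * gc₂) ∧ gc₂ * gq = gq * gc₁ ∧
    gq * (gq * (gq * gq)) = 1 ∧ gk₁ * gk₁ = 1 ∧ gk₂ * gk₂ = 1 ∧ gk₁ * gk₂ = gk₂ * gk₁ ∧
    gc₁ * gk₁ = gk₁ * gc₁ ∧ gc₂ * gk₁ = gk₁ * gc₂ ∧ gq * gk₁ = gk₁ * gq ∧
    gc₁ * gk₂ = gk₂ * gc₁ ∧ gc₂ * gk₂ = gk₂ * gc₂ ∧ gq * gk₂ = gk₂ * gq := by decide +kernel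

/-- A semi-invariant vector of the torus. -/
def Semi (lam e1 e2 : ℕ) (v : A) : Prop :=
  M.ρ gc₁ v = v ∧ M.ρ gc₂ v = v ∧ M.ρ gq v = lam • v ∧ M.ρ gk₁ v = e1 • v ∧ M.ρ gk₂ v = e2 • v

theorem exists_invol_eigen {σ : Perm (Fin 10)} (hσ : Perm.sign σ = 1) (h : σ * σ = 1) {a : A}
    (ha : a ≠ 0) : ∃ e, (e = 1 ∨ e = 4) ∧ a + e • M.ρ σ a ≠ 0 ∧
      M.ρ σ (a + e • M.ρ σ a) = e • (a + e • M.ρ σ a) := by
  have hfix : ∀ b, M.ρ σ (M.ρ σ b) = b := fun b => by rw [M.apply_eq hσ hσ h, M.one]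
  by_cases h1 : a + 1 • M.ρ σ a = 0
  · refine ⟨4, Or.inr rfl, fun h4 => ha (M.eq_zero_of_two ?_), ?_⟩
    · have : (a + 1 • M.ρ σ a) + (a + 4 • M.ρ σ a) = 0 := by rw [h1, h4, add_zero]
      have h5 := M.five (M.ρ σ a)
      rw [← this, two_nsmul, show a + 1 • M.ρ σ a + (a + 4 • M.ρ σ a) = a + a + 5 • M.ρ σ a by
        abel, h5, add_zero]
    · rw [map_add, map_nsmul, hfix, smul_add, smul_smul, M.smul_congr (m := 1) (n := 4 * 4)
        (by norm_num), one_smul, add_comm]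
  · exact ⟨1, Or.inl rfl, h1, by simp only [one_smul, map_add, hfix, add_comm]⟩

theorem exists_semi (hA : ∃ a : A, a ≠ 0) : ∃ lam e1 e2 : ℕ, ∃ v : A,
    (lam = 1 ∨ lam = 2 ∨ lam = 3 ∨ lam = 4) ∧ (e1 = 1 ∨ e1 = 4) ∧ (e2 = 1 ∨ e2 = 4) ∧
      v ≠ 0 ∧ Semi M lam e1 e2 v := by
  obtain ⟨a, ha0, a1, a2⟩ := exists_c33 M hA
  obtain ⟨sc1, sc2, sq, sk1, sk2⟩ := sign_g
  obtain ⟨t1, t2, t3, t4, t5, t6, t7, t8, t9, t10, t11, t12⟩ := torus_facts
  have sc22 := sign_mul_one sc2 sc2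
  have sqq := sign_mul_one sq sq
  -- the element of order four
  have hq1 : ∀ x, M.ρ gc₁ x = x → M.ρ gc₂ x = x →
      M.ρ gc₁ (M.ρ gq x) = M.ρ gq x ∧ M.ρ gc₂ (M.ρ gq x) = M.ρ gq x := by
    intro x x1 x2
    refine ⟨?_, ?_⟩
    · rw [M.swap_eq sc1 sq sc22 sq t1, ← M.apply_eq sc2 sc2 rfl, x2, x2]
    · rw [M.swap_eq sc2 sq sc1 sq t2, x1]
  set b1 := M.ρ gq a with hb1
  set b2 := M.ρ gq b1 with hb2
  set b3 := M.ρ gq b2 with hb3
  obtain ⟨p1, p2⟩ := hq1 a a1 a2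
  obtain ⟨p3, p4⟩ := hq1 b1 p1 p2
  obtain ⟨p5, p6⟩ := hq1 b2 p3 p4
  have hb4 : M.ρ gq b3 = a := by
    rw [hb3, hb2, hb1, M.apply_eq sq sq rfl, M.apply_eq sqq sq rfl,
      M.apply_eq (sign_mul_one sqq sq) sq rfl, mul_assoc, mul_assoc, t3, M.one]
  let u : ℕ → A := fun l => a + (l ^ 3) • b1 + (l ^ 2) • b2 + l • b3
  have hqu : ∀ l, l ^ 4 % 5 = 1 → M.ρ gq (u l) = l • u l := by
    intro l hl
    simp only [u, map_add, map_nsmul, ← hb1, ← hb2, ← hb3, hb4, smul_add, smul_smul]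
    rw [M.smul_congr (n := l * l ^ 3) (m := 1) (by rw [← pow_succ', hl]), one_smul,
      show l * l ^ 2 = l ^ 3 by ring, show l * l = l ^ 2 by ring]
    abel
  have hne : ∃ l, (l = 1 ∨ l = 2 ∨ l = 3 ∨ l = 4) ∧ u l ≠ 0 := by
    by_contra hh
    push Not at hh
    have hsum : u 1 + u 2 + u 3 + u 4 = 0 := by
      rw [hh 1 (by tauto), hh 2 (by tauto), hh 3 (by tauto), hh 4 (by tauto)]
      simp
    have h5 : u 1 + u 2 + u 3 + u 4 =
        4 • a + (5 * 20) • b1 + (5 * 6) • b2 + (5 * 2) • b3 := by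
      simp only [u]; abel
    rw [h5, mul_smul, mul_smul, mul_smul, M.five, M.five, M.five, add_zero, add_zero,
      add_zero] at hsum
    have := M.five a
    rw [show (5 : ℕ) = 4 + 1 from rfl, add_smul, hsum, zero_add, one_smul] at this
    exact ha0 this
  obtain ⟨lam, hlam, hu0⟩ := hne
  have hl4 : lam ^ 4 % 5 = 1 := by rcases hlam with rfl | rfl | rfl | rfl <;> norm_num
  have u1 : M.ρ gc₁ (u lam) = u lam := by
    simp only [u, map_add, map_nsmul, a1, show M.ρ gc₁ b1 = b1 from p1,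
      show M.ρ gc₁ b2 = b2 from p3, show M.ρ gc₁ b3 = b3 from p5]
  have u2 : M.ρ gc₂ (u lam) = u lam := by
    simp only [u, map_add, map_nsmul, a2, show M.ρ gc₂ b1 = b1 from p2,
      show M.ρ gc₂ b2 = b2 from p4, show M.ρ gc₂ b3 = b3 from p6]
  have uq := hqu lam hl4
  clear_value u
  -- the two involutions
  obtain ⟨e1, he1, hv0, hv⟩ := exists_invol_eigen M sk1 t4 hu0
  set v := u lam + e1 • M.ρ gk₁ (u lam) with hvdef
  have v1 : M.ρ gc₁ v = v := by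
    rw [hvdef, map_add, map_nsmul, u1, M.swap_eq sc1 sk1 sc1 sk1 t7, u1]
  have v2 : M.ρ gc₂ v = v := by
    rw [hvdef, map_add, map_nsmul, u2, M.swap_eq sc2 sk1 sc2 sk1 t8, u2]
  have vq : M.ρ gq v = lam • v := by
    rw [hvdef, map_add, map_nsmul, uq, M.swap_eq sq sk1 sq sk1 t9, uq, map_nsmul, smul_add,
      smul_comm]
  clear_value v
  obtain ⟨e2, he2, hw0, hw⟩ := exists_invol_eigen M sk2 t5 hv0
  refine ⟨lam, e1, e2, v + e2 • M.ρ gk₂ v, hlam, he1, he2, hw0, ?_, ?_, ?_, ?_, hw⟩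
  · rw [map_add, map_nsmul, v1, M.swap_eq sc1 sk2 sc1 sk2 t10, v1]
  · rw [map_add, map_nsmul, v2, M.swap_eq sc2 sk2 sc2 sk2 t11, v2]
  · rw [map_add, map_nsmul, vq, M.swap_eq sq sk2 sq sk2 t12, vq, map_nsmul, smul_add, smul_comm]
  · rw [map_add, map_nsmul, hv, M.swap_eq sk1 sk2 sk1 sk2 t6, hv, map_nsmul, smul_add, smul_comm]

theorem semi_r {lam e1 e2 : ℕ} {v : A} (h : Semi M lam e1 e2 v) :
    Semi M lam e2 (e1 * e2) (M.ρ gr v) := by
  obtain ⟨h1, h2, h3, h4, h5⟩ := h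
  obtain ⟨sc1, sc2, sq, sk1, sk2⟩ := sign_g
  obtain ⟨-, sr, -, -, -, -, -, r1, r2, r3, r4, r5⟩ := conj_facts
  refine ⟨?_, ?_, ?_, ?_, ?_⟩
  · rw [M.swap_eq sc1 sr sc1 sr r1, h1]
  · rw [M.swap_eq sc2 sr sc2 sr r2, h2]
  · rw [M.swap_eq sq sr sq sr r3, h3, map_nsmul]
  · rw [M.swap_eq sk1 sr sk2 sr r4, h5, map_nsmul]
  · rw [M.swap_eq sk2 sr (sign_mul_one sk1 sk2) sr r5, ← M.apply_eq sk1 sk2 rfl, h5, map_nsmul, h4,
      smul_smul, map_nsmul, mul_comm]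

theorem semi_n {lam e1 e2 : ℕ} {v : A} (h : Semi M lam e1 e2 v) :
    Semi M (lam * (lam * lam)) e1 (e1 * e2) (M.ρ gn v) := by
  obtain ⟨h1, h2, h3, h4, h5⟩ := h
  obtain ⟨sc1, sc2, sq, sk1, sk2⟩ := sign_g
  obtain ⟨sn, -, n1, n2, n3, n4, n5, -⟩ := conj_facts
  refine ⟨?_, ?_, ?_, ?_, ?_⟩
  · rw [M.swap_eq sc1 sn (sign_mul_one sc1 sc1) sn n1, ← M.apply_eq sc1 sc1 rfl, h1, h1]
  · rw [M.swap_eq sc2 sn sc2 sn n2, h2]
  · rw [M.swap_eq sq sn (sign_mul_one sq (sign_mul_one sq sq)) sn n3,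
      ← M.apply_eq sq (sign_mul_one sq sq) rfl, ← M.apply_eq sq sq rfl, h3, map_nsmul, h3,
      smul_smul, map_nsmul, h3, smul_smul, map_nsmul]
    exact congrArg (· • M.ρ gn v) (by ring)
  · rw [M.swap_eq sk1 sn sk1 sn n4, h4, map_nsmul]
  · rw [M.swap_eq sk2 sn (sign_mul_one sk1 sk2) sn n5, ← M.apply_eq sk1 sk2 rfl, h5, map_nsmul, h4,
      smul_smul, map_nsmul, mul_comm]

theorem semi_congr {lam e1 e2 lam' e1' e2' : ℕ} {v : A} (h : Semi M lam e1 e2 v)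
    (hl : lam % 5 = lam' % 5) (ha : e1 % 5 = e1' % 5) (hb : e2 % 5 = e2' % 5) :
    Semi M lam' e1' e2' v := by
  obtain ⟨h1, h2, h3, h4, h5⟩ := h
  exact ⟨h1, h2, h3.trans (M.smul_congr hl v), h4.trans (M.smul_congr ha v),
    h5.trans (M.smul_congr hb v)⟩

theorem semi_zero (hM : NoFix M) {C : Case} (hC : C.check = true) (hl : C.lam < 5) (h1 : C.e1 < 5)
    (h2 : C.e2 < 5) {v : A} (h : Semi M C.lam C.e1 C.e2 v) : v = 0 := by
  obtain ⟨g1, g2, g3, g4, g5⟩ := h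
  refine eig_zero hC hM fun s hs => ?_
  have k48 : C.kap 48 = 1 := by simp [Case.kap]
  have k16 : C.kap 16 = 1 := by simp [Case.kap]
  have k4 : C.kap 4 = C.lam := by simp [Case.kap, Nat.mod_eq_of_lt hl]
  have k2 : C.kap 2 = C.e1 := by simp [Case.kap, Nat.mod_eq_of_lt h1]
  have k1 : C.kap 1 = C.e2 := by simp [Case.kap, Nat.mod_eq_of_lt h2]
  fin_cases hs
  · rw [k48, one_smul]; exact g1
  · rw [k16, one_smul]; exact g2
  · rw [k4]; exact g3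
  · rw [k2]; exact g4
  · rw [k1]; exact g5

/-- Every module in which the listed subgroups fix nothing is zero. -/
theorem universal (hM : NoFix M) (a : A) : a = 0 := by
  by_contra ha
  obtain ⟨lam, e1, e2, v, hl, he1, he2, hv0, hv⟩ := exists_semi M ⟨a, ha⟩
  obtain ⟨-, sr, -⟩ := conj_facts
  have rinj := M.injective sr
  have ninj := M.injective conj_facts.1
  have step1 : ∃ lam' e1' e2' : ℕ, ∃ w : A, (lam' = 1 ∨ lam' = 2 ∨ lam' = 4) ∧
      (e1' = 1 ∨ e1' = 4) ∧ (e2' = 1 ∨ e2' = 4) ∧ w ≠ 0 ∧ Semi M lam' e1' e2' w := by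
    rcases hl with rfl | rfl | rfl | rfl
    · exact ⟨1, e1, e2, v, by tauto, he1, he2, hv0, hv⟩
    · exact ⟨2, e1, e2, v, by tauto, he1, he2, hv0, hv⟩
    · refine ⟨2, e1, e1 * e2 % 5, M.ρ gn v, by tauto, he1, ?_,
        fun h => hv0 (ninj (by rw [h, map_zero])), semi_congr M (semi_n M hv) (by norm_num) rfl
          (Nat.mod_mod _ _).symm⟩
      rcases he1 with rfl | rfl <;> rcases he2 with rfl | rfl <;> norm_num
    · exact ⟨4, e1, e2, v, by tauto, he1, he2, hv0, hv⟩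
  obtain ⟨l, f1, f2, w, hl', hf1, hf2, hw0, hw⟩ := step1
  have step2 : ∃ x : A, x ≠ 0 ∧ (Semi M l 1 1 x ∨ Semi M l 1 4 x) := by
    rcases hf1 with rfl | rfl
    · rcases hf2 with rfl | rfl
      · exact ⟨w, hw0, Or.inl hw⟩
      · exact ⟨w, hw0, Or.inr hw⟩
    · rcases hf2 with rfl | rfl
      · exact ⟨M.ρ gr w, fun h => hw0 (rinj (by rw [h, map_zero])),
          Or.inr (semi_congr M (semi_r M hw) rfl rfl (by norm_num))⟩
      · exact ⟨M.ρ gr (M.ρ gr w),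
          fun h => hw0 (rinj (rinj (by rw [h, map_zero, map_zero]))),
          Or.inr (semi_congr M (semi_r M (semi_r M hw)) rfl (by norm_num) (by norm_num))⟩
  obtain ⟨x, hx0, hx⟩ := step2
  apply hx0
  rcases hl' with rfl | rfl | rfl <;> rcases hx with h | h
  · exact semi_zero M hM case0_ok (by decide) (by decide) (by decide) h
  · exact semi_zero M hM case1_ok (by decide) (by decide) (by decide) h
  · exact semi_zero M hM case4_ok (by decide) (by decide) (by decide) h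
  · exact semi_zero M hM case5_ok (by decide) (by decide) (by decide) h
  · exact semi_zero M hM case2_ok (by decide) (by decide) (by decide) h
  · exact semi_zero M hM case3_ok (by decide) (by decide) (by decide) h

end CfsgLib.AltCent.Hecke
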