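import Mathlib
import Cfsg.Agent.Lib.AltCent.Hecke.Data

/-!
Checkable certificates showing that a module of the alternating group of degree ten has no
semi-invariant vector when certain non-solvable subgroups fix nothing.
-/

set_option autoImplicit false

namespace CfsgLib.AltCent.Hecke

open Equiv

/-- The image of `i` under the coded map `c`. -/
def dig (c i : ℕ) : ℕ := c >>> (4 * i) % 16

/-- Codes from lists of digits. -/
def horner (l : List ℕ) : ℕ := l.foldr (fun d x => d + 16 * x) 0

/-- The code of a composite. -/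
def comp (a b : ℕ) : ℕ := horner ((List.range 10).map fun i => dig a (dig b i))

/-- The map coded by `c`. -/
def img (c : ℕ) (i : Fin 10) : Fin 10 := ⟨dig c i % 10, Nat.mod_lt _ (by norm_num)⟩

/-- A candidate inverse of the map coded by `c`. -/
def pre (c : ℕ) (i : Fin 10) : Fin 10 :=
  ⟨((List.range 10).findIdx fun j => dig c j == i.val) % 10, Nat.mod_lt _ (by norm_num)⟩

/-- The permutation with code `c`. -/
def permOf (c : ℕ) : Perm (Fin 10) :=
  if h : (∀ i, pre c (img c i) = i) ∧ ∀ i, img c (pre c i) = i then
    ⟨img c, pre c, h.1, h.2⟩ else 1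

/-- `c` codes `σ`. -/
def Rep (c : ℕ) (σ : Perm (Fin 10)) : Prop := ∀ i : Fin 10, dig c i = (σ i).val

/-- `c` codes an even permutation. -/
def evenCode (c : ℕ) : Bool :=
  decide (∀ i : Fin 10, dig c i = (permOf c i).val) && decide (Perm.sign (permOf c) = 1)

theorem rep_of_evenCode {c : ℕ} (h : evenCode c = true) :
    Rep c (permOf c) ∧ Perm.sign (permOf c) = 1 := by
  rw [evenCode, Bool.and_eq_true, decide_eq_true_eq, decide_eq_true_eq] at h
  exact h

theorem Rep.eq {c : ℕ} {σ τ : Perm (Fin 10)} (h : Rep c σ) (h' : Rep c τ) : σ = τ :=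
  Perm.ext fun i => Fin.ext ((h i).symm.trans (h' i))

theorem dig_horner : ∀ (l : List ℕ), (∀ d ∈ l, d < 16) → ∀ i, dig (horner l) i = l.getD i 0
  | [], _, i => by simp [horner, dig]
  | d :: l, hl, i => by
    have hd : d < 16 := hl d List.mem_cons_self
    have ih := dig_horner l fun e he => hl e (List.mem_cons_of_mem _ he)
    have hh : horner (d :: l) = d + 16 * horner l := rfl
    rw [dig, hh, Nat.shiftRight_eq_div_pow]
    cases i with
    | zero => simp only [List.getD_cons_zero, Nat.mul_zero, pow_zero, Nat.div_one]; omega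
    | succ i =>
      rw [List.getD_cons_succ, ← ih i, dig, Nat.shiftRight_eq_div_pow,
        show 4 * (i + 1) = 4 + 4 * i by ring, pow_add, ← Nat.div_div_eq_div_mul,
        show (d + 16 * horner l) / 2 ^ 4 = horner l by omega]

theorem Rep.mul {a b : ℕ} {σ τ : Perm (Fin 10)} (ha : Rep a σ) (hb : Rep b τ) :
    Rep (comp a b) (σ * τ) := fun i => by
  have hlt : ∀ d ∈ (List.range 10).map (fun j => dig a (dig b j)), d < 16 := fun d hd => by
    obtain ⟨j, -, rfl⟩ := List.mem_map.1 hd
    exact Nat.mod_lt _ (by norm_num)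
  rw [comp, dig_horner _ hlt, List.getD_eq_getElem _ _ (by simp [i.isLt]), List.getElem_map,
    List.getElem_range, hb i, ha]
  rfl

/-- A module of the alternating group of degree ten in characteristic five. -/
structure AMod (A : Type*) [AddCommGroup A] where
  /-- The action. -/
  ρ : Perm (Fin 10) → A →+ A
  one : ∀ a, ρ 1 a = a
  mul : ∀ σ τ, Perm.sign σ = 1 → Perm.sign τ = 1 → ∀ a, ρ (σ * τ) a = ρ σ (ρ τ a)
  five : ∀ a : A, (5 : ℕ) • a = 0

variable {A : Type*} [AddCommGroup A]

theorem AMod.smul_mod (M : AMod A) (n : ℕ) (a : A) : (n % 5) • a = n • a := by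
  conv_rhs => rw [← Nat.mod_add_div n 5, add_smul, mul_smul, M.five, add_zero]

/-- The subgroups listed in the data fix nothing. -/
def NoFix (M : AMod A) : Prop :=
  ∀ i < mGens.length, ∀ a : A, M.ρ (permOf (mGens.getD i (0, 0)).1) a = a →
    M.ρ (permOf (mGens.getD i (0, 0)).2) a = a → a = 0

/-- A row of a certificate. -/
structure Row where
  coef : ℕ
  hi : ℕ
  hj : ℕ
  terms : List (ℕ × ℕ × ℕ)

/-- Rows sharing a conjugated subgroup. -/
structure Group where
  mi : ℕ
  g : ℕ
  T : List ℕ
  tk : List ℕ
  R : List ℕ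
  pos : List ℕ
  rows : List Row

/-- A certificate for one character. -/
structure Case where
  lam : ℕ
  e1 : ℕ
  e2 : ℕ
  dead : List (ℕ × ℕ × ℕ)
  groups : List Group

/-- An element of the torus. -/
def kAt (k : ℕ) : ℕ := kCodes.getD k 0

/-- A double coset representative. -/
def rAt (o : ℕ) : ℕ := rCodes.getD o 0

/-- An auxiliary element. -/
def bAt (i : ℕ) : ℕ := bCodes.getD i 0

/-- An element of one of the subgroups. -/
def mAt (i x : ℕ) : ℕ := (mLists.getD i []).getD x 0

/-- The index of the last generator used in the normal form. -/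
def step (k : ℕ) : ℕ :=
  if k % 2 = 1 then 1 else if 2 ≤ k % 4 then 2 else if 4 ≤ k % 16 then 4
  else if 16 ≤ k % 48 then 16 else 48

/-- The character. -/
def Case.kap (C : Case) (k : ℕ) : ℕ :=
  C.lam ^ (k / 4 % 4) * C.e1 ^ (k / 2 % 2) * C.e2 ^ (k % 2) % 5

/-- The indices of the generators. -/
def kGenIdx : List ℕ := [48, 16, 4, 2, 1]

/-- Index of a code in the group. -/
def kIdx (c : ℕ) : ℕ := kCodes.findIdx (· == c)

/-- Checks on the data not depending on the character. -/
def dataCheck : Bool :=
  kCodes.all evenCode && rCodes.all evenCode && bCodes.all evenCode &&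
  mLists.all (fun l => l.all evenCode) &&
  mGens.all (fun ab => evenCode ab.1 && evenCode ab.2) &&
  (kCodes.length == 144) && decide (0 < rCodes.length) && (mLists.length == mGens.length) &&
  (kAt 0 == rAt 0) && ((List.range 144).all fun k => kIdx (kAt k) == k) && decide (∀ i : Fin 10, dig (kAt 0) i = i.val) &&
  ((List.range 144).all fun k =>
    k == 0 || (decide (k - step k < k) && (comp (kAt (k - step k)) (kAt (step k)) == kAt k))) &&
  (kGenIdx.all fun s => decide ((List.range 144).map fun k => kIdx (comp (kAt k) (kAt s))).Nodup &&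
    (List.range 144).all fun k => kAt (kIdx (comp (kAt k) (kAt s))) == comp (kAt k) (kAt s) &&
      decide (kIdx (comp (kAt k) (kAt s)) < 144)) &&
  ((List.range mGens.length).all fun i =>
    let l := mLists.getD i []
    decide l.Nodup && (l.all fun x => comp x 0x9876543210 == x) &&
    (l.all fun x => l.contains (comp (mGens.getD i (0, 0)).1 x) &&
      l.contains (comp (mGens.getD i (0, 0)).2 x)))

/-- Check of a group of rows. -/
def Case.groupCheck (C : Case) (G : Group) : Bool :=
  decide (G.mi < mGens.length) && evenCode G.g &&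
  (G.T.all fun t => decide (t < (mLists.getD G.mi []).length)) &&
  (G.R.all fun r => decide (r < (mLists.getD G.mi []).length)) &&
  (G.tk.length == G.T.length) && (G.T.length % 5 != 0) &&
  ((List.range G.T.length).all fun a =>
    decide (G.tk.getD a 0 < 144) && (C.kap (G.tk.getD a 0) == 1) &&
      (comp G.g (mAt G.mi (G.T.getD a 0)) == comp (kAt (G.tk.getD a 0)) G.g)) &&
  (G.pos.length == (mLists.getD G.mi []).length) &&
  (G.T.length * G.R.length == G.pos.length) && decide G.pos.Nodup &&
  ((List.range G.pos.length).all fun x =>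
    decide (G.pos.getD x 0 < G.pos.length) &&
      (comp (mAt G.mi (G.T.getD (G.pos.getD x 0 / G.R.length) 0))
        (mAt G.mi (G.R.getD (G.pos.getD x 0 % G.R.length) 0)) == mAt G.mi x)) &&
  (G.rows.all fun r => decide (r.hi < bCodes.length) && decide (r.hj < bCodes.length) &&
    (r.terms.length == G.R.length) &&
    (List.range G.R.length).all fun b =>
      let t := r.terms.getD b (0, 0, 0)
      decide (t.1 < 144) && decide (t.2.1 < rCodes.length) && decide (t.2.2 < 144) &&
        (comp G.g (comp (mAt G.mi (G.R.getD b 0)) (comp (bAt r.hi) (bAt r.hj))) ==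
          comp (comp (kAt t.1) (rAt t.2.1)) (kAt t.2.2)))

/-- All weighted terms. -/
def Case.contrib (C : Case) : List (ℕ × ℕ) :=
  C.groups.flatMap fun G => G.rows.flatMap fun r =>
    r.terms.map fun t => (r.coef * C.kap t.1 * C.kap t.2.2 % 5, t.2.1)

/-- The check of a certificate. -/
def Case.check (C : Case) : Bool :=
  ((List.range 144).all fun k => C.kap k ^ 4 % 5 == 1) && (C.kap 0 == 1) &&
  (kGenIdx.all fun s => (List.range 144).all fun k =>
    C.kap (kIdx (comp (kAt k) (kAt s))) == C.kap k * C.kap s % 5) &&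
  (C.dead.all fun d => decide (d.1 < rCodes.length) && decide (d.2.1 < 144) &&
    decide (d.2.2 < 144) && (comp (kAt d.2.1) (rAt d.1) == comp (rAt d.1) (kAt d.2.2)) &&
    (C.kap d.2.1 != C.kap d.2.2) && (d.1 != 0)) &&
  C.groups.all C.groupCheck &&
  (let L := C.contrib
   (List.range rCodes.length).all fun o => C.dead.any (fun d => d.1 == o) ||
     (((L.filter fun e => e.2 == o).map Prod.fst).sum % 5 == if o = 0 then 1 else 0))

end CfsgLib.AltCent.Hecke
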