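import Cfsg.Agent.Lib.AltCent.Hecke.Cert

/-!
The data of the certificates are consistent.
-/

set_option autoImplicit false

namespace CfsgLib.AltCent.Hecke

theorem dataCheck_ok : dataCheck = true := by decide +kernel

end CfsgLib.AltCent.Hecke
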