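import Cfsg.Agent.Lib.AltCent.Hecke.DataOk

/-!
Soundness of the certificates.
-/

set_option autoImplicit false

namespace CfsgLib.AltCent.Hecke

open Equiv Finset

variable {A : Type*} [AddCommGroup A]

theorem getD_mem {β : Type*} (l : List β) {i : ℕ} (d : β) (h : i < l.length) : l.getD i d ∈ l := by
  rw [List.getD_eq_getElem _ _ h]
  exact List.getElem_mem h

theorem exists_getD {β : Type*} {l : List β} {x d : β} (h : x ∈ l) :
    ∃ i < l.length, l.getD i d = x := by
  obtain ⟨i, hi, rfl⟩ := List.getElem_of_mem h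
  exact ⟨i, hi, List.getD_eq_getElem _ _ hi⟩

structure DataSpec : Prop where
  kEven : ∀ k < 144, evenCode (kAt k) = true
  rEven : ∀ o < rCodes.length, evenCode (rAt o) = true
  bEven : ∀ i < bCodes.length, evenCode (bAt i) = true
  mEven : ∀ i < mGens.length, ∀ x < (mLists.getD i []).length, evenCode (mAt i x) = true
  gEven : ∀ i < mGens.length, evenCode (mGens.getD i (0, 0)).1 = true ∧
    evenCode (mGens.getD i (0, 0)).2 = true
  rPos : 0 < rCodes.length
  rZero : kAt 0 = rAt 0
  kOne : ∀ i : Fin 10, dig (kAt 0) i = i.val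
  kInj : ∀ k < 144, kIdx (kAt k) = k
  kStep : ∀ k < 144, k ≠ 0 →
    k - step k < k ∧ comp (kAt (k - step k)) (kAt (step k)) = kAt k
  kMul : ∀ s ∈ kGenIdx,
    ((List.range 144).map fun k => kIdx (comp (kAt k) (kAt s))).Nodup ∧
    ∀ k < 144, kAt (kIdx (comp (kAt k) (kAt s))) = comp (kAt k) (kAt s) ∧
      kIdx (comp (kAt k) (kAt s)) < 144
  mNodup : ∀ i < mGens.length, (mLists.getD i []).Nodup
  mCanon : ∀ i < mGens.length, ∀ x ∈ mLists.getD i [], comp x 0x9876543210 = x
  mClosed : ∀ i < mGens.length, ∀ x ∈ mLists.getD i [],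
    comp (mGens.getD i (0, 0)).1 x ∈ mLists.getD i [] ∧
      comp (mGens.getD i (0, 0)).2 x ∈ mLists.getD i []

theorem dataSpec : DataSpec := by
  have h := dataCheck_ok
  simp only [dataCheck, Bool.and_eq_true, List.all_eq_true, beq_iff_eq, decide_eq_true_eq,
    List.mem_range, List.contains_iff_mem, Bool.or_eq_true] at h
  obtain ⟨⟨⟨⟨⟨⟨⟨⟨⟨⟨⟨⟨⟨hK, hR⟩, hB⟩, hM⟩, hG⟩, hKl⟩, hRp⟩, hMl⟩, hZ⟩, hinj⟩, hone⟩, hst⟩, hmul⟩, hcl⟩ := h
  have hmem : ∀ i < mGens.length, mLists.getD i [] ∈ mLists := fun i hi =>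
    getD_mem _ _ (hMl ▸ hi)
  exact
  { kEven := fun k hk => hK _ (getD_mem _ _ (hKl.symm ▸ hk))
    rEven := fun o ho => hR _ (getD_mem _ _ ho)
    bEven := fun i hi => hB _ (getD_mem _ _ hi)
    mEven := fun i hi x hx => hM _ (hmem i hi) _ (getD_mem _ _ hx)
    gEven := fun i hi => hG _ (getD_mem _ _ hi)
    rPos := hRp
    rZero := hZ
    kOne := hone
    kInj := hinj
    kStep := fun k hk hk0 => (hst k hk).resolve_left hk0
    kMul := hmul
    mNodup := fun i hi => ((hcl i hi).1).1
    mCanon := fun i hi => ((hcl i hi).1).2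
    mClosed := fun i hi => (hcl i hi).2 }

theorem kOne_perm : permOf (kAt 0) = 1 :=
  (rep_of_evenCode (dataSpec.kEven 0 (by norm_num))).1.eq fun i => dataSpec.kOne i

theorem sign_mul_one {σ τ : Perm (Fin 10)} (h1 : Perm.sign σ = 1) (h2 : Perm.sign τ = 1) :
    Perm.sign (σ * τ) = 1 := by rw [Perm.sign_mul, h1, h2, one_mul]

theorem permOf_step {k : ℕ} (hk : k < 144) (hk0 : k ≠ 0) :
    permOf (kAt (k - step k)) * permOf (kAt (step k)) = permOf (kAt k) := by
  obtain ⟨h1, h2⟩ := dataSpec.kStep k hk hk0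
  have hs : step k < 144 := by unfold step; split_ifs <;> omega
  have h3 := (rep_of_evenCode (dataSpec.kEven _ (h1.trans hk))).1.mul
    (rep_of_evenCode (dataSpec.kEven _ hs)).1
  rw [h2] at h3
  exact h3.eq (rep_of_evenCode (dataSpec.kEven k hk)).1

theorem step_mem (k : ℕ) : step k ∈ kGenIdx := by
  unfold step kGenIdx
  split_ifs <;> simp

theorem step_lt (k : ℕ) : step k < 144 := by unfold step; split_ifs <;> omega

theorem AMod.smul_congr (M : AMod A) {n m : ℕ} (h : n % 5 = m % 5) (a : A) : n • a = m • a := by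
  rw [← M.smul_mod n, h, M.smul_mod]

structure CaseSpec (C : Case) : Prop where
  four : ∀ k < 144, C.kap k ^ 4 % 5 = 1
  kap0 : C.kap 0 = 1
  hom : ∀ s ∈ kGenIdx, ∀ k < 144,
    C.kap (kIdx (comp (kAt k) (kAt s))) = C.kap k * C.kap s % 5
  dead : ∀ d ∈ C.dead, d.1 < rCodes.length ∧ d.2.1 < 144 ∧ d.2.2 < 144 ∧
    comp (kAt d.2.1) (rAt d.1) = comp (rAt d.1) (kAt d.2.2) ∧ C.kap d.2.1 ≠ C.kap d.2.2 ∧ d.1 ≠ 0
  groups : ∀ G ∈ C.groups, C.groupCheck G = true
  total : ∀ o < rCodes.length, (∃ d ∈ C.dead, d.1 = o) ∨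
    ((C.contrib.filter fun e => e.2 == o).map Prod.fst).sum % 5 = if o = 0 then 1 else 0

theorem caseSpec {C : Case} (h : C.check = true) : CaseSpec C := by
  simp only [Case.check, Bool.and_eq_true, List.all_eq_true, beq_iff_eq, decide_eq_true_eq,
    List.mem_range, Bool.or_eq_true, List.any_eq_true, bne_iff_ne, ne_eq] at h
  obtain ⟨⟨⟨⟨⟨h1, h2⟩, h3⟩, h4⟩, h5⟩, h6⟩ := h
  exact ⟨h1, h2, h3, fun d hd => by
    obtain ⟨⟨⟨⟨⟨a, b⟩, c⟩, e⟩, f⟩, g⟩ := h4 d hd
    exact ⟨a, b, c, e, f, g⟩, h5, h6⟩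

/-- A semi-invariant vector for the character of `C`. -/
def Eig (M : AMod A) (C : Case) (v : A) : Prop :=
  ∀ s ∈ kGenIdx, M.ρ (permOf (kAt s)) v = C.kap s • v

/-- The averaged translate. -/
noncomputable def P (M : AMod A) (C : Case) (v : A) (x : Perm (Fin 10)) : A :=
  ∑ k ∈ range 144, (C.kap k ^ 3) • M.ρ (permOf (kAt k) * x) v

variable {M : AMod A} {C : Case} {v : A}

theorem eig_all (hC : CaseSpec C) (he : Eig M C v) :
    ∀ k < 144, M.ρ (permOf (kAt k)) v = C.kap k • v := by
  intro k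
  induction k using Nat.strong_induction_on with
  | h k ih =>
    intro hk
    rcases eq_or_ne k 0 with rfl | hk0
    · rw [kOne_perm, M.one, hC.kap0, one_smul]
    obtain ⟨h1, h2⟩ := dataSpec.kStep k hk hk0
    have h3 := hC.hom _ (step_mem k) _ (h1.trans hk)
    rw [h2, dataSpec.kInj k hk] at h3
    rw [← permOf_step hk hk0, M.mul _ _ (rep_of_evenCode (dataSpec.kEven _ (h1.trans hk))).2
      (rep_of_evenCode (dataSpec.kEven _ (step_lt k))).2, he _ (step_mem k), map_nsmul,
      ih _ h1 (h1.trans hk), smul_smul, mul_comm (C.kap (step k))]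
    exact M.smul_congr (by rw [h3, Nat.mod_mod]) v

theorem P_gen_mul (hC : CaseSpec C) {s : ℕ} (hs : s ∈ kGenIdx) (x : Perm (Fin 10)) :
    P M C v (permOf (kAt s) * x) = C.kap s • P M C v x := by
  classical
  obtain ⟨hnd, hσ⟩ := dataSpec.kMul s hs
  have hs144 : s < 144 := by
    revert hs; unfold kGenIdx; intro hs; fin_cases hs <;> norm_num
  set σ := fun k => kIdx (comp (kAt k) (kAt s)) with hσdef
  have hperm : ∀ k < 144, permOf (kAt k) * permOf (kAt s) = permOf (kAt (σ k)) := fun k hk => by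
    have h1 := (rep_of_evenCode (dataSpec.kEven k hk)).1.mul
      (rep_of_evenCode (dataSpec.kEven s hs144)).1
    rw [← (hσ k hk).1] at h1
    exact h1.eq (rep_of_evenCode (dataSpec.kEven _ (hσ k hk).2)).1
  have hinj : Set.InjOn σ (range 144 : Finset ℕ) := fun a ha b hb hab =>
    List.inj_on_of_nodup_map hnd (List.mem_range.2 (Finset.mem_range.1 ha))
      (List.mem_range.2 (Finset.mem_range.1 hb)) hab
  have himg : (range 144).image σ = range 144 := by
    refine eq_of_subset_of_card_le (fun j hj => ?_) ?_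
    · obtain ⟨k, hk, rfl⟩ := Finset.mem_image.1 hj
      exact Finset.mem_range.2 (hσ k (Finset.mem_range.1 hk)).2
    · rw [card_image_of_injOn hinj]
  conv_rhs => rw [P, smul_sum, ← himg, sum_image hinj]
  refine sum_congr rfl fun k hk => ?_
  rw [← mul_assoc, hperm k (Finset.mem_range.1 hk), smul_smul]
  refine M.smul_congr ?_ _
  have h1 : C.kap (σ k) % 5 = C.kap k * C.kap s % 5 := by
    rw [hσdef]; simp only
    rw [hC.hom s hs k (Finset.mem_range.1 hk), Nat.mod_mod]
  calc C.kap k ^ 3 % 5 = C.kap k ^ 3 * C.kap s ^ 4 % 5 := by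
        rw [Nat.mul_mod, hC.four s hs144, mul_one, Nat.mod_mod]
    _ = C.kap s * (C.kap k * C.kap s) ^ 3 % 5 := by
        rw [show C.kap k ^ 3 * C.kap s ^ 4 = C.kap s * (C.kap k * C.kap s) ^ 3 by ring]
    _ = C.kap s * C.kap (σ k) ^ 3 % 5 :=
        (Nat.ModEq.mul_left _ (Nat.ModEq.pow 3 h1)).symm

theorem P_k_mul (hC : CaseSpec C) : ∀ k < 144, ∀ x : Perm (Fin 10),
    P M C v (permOf (kAt k) * x) = C.kap k • P M C v x := by
  intro k
  induction k using Nat.strong_induction_on with
  | h k ih =>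
    intro hk x
    rcases eq_or_ne k 0 with rfl | hk0
    · rw [kOne_perm, one_mul, hC.kap0, one_smul]
    obtain ⟨h1, h2⟩ := dataSpec.kStep k hk hk0
    have h3 := hC.hom _ (step_mem k) _ (h1.trans hk)
    rw [h2, dataSpec.kInj k hk] at h3
    rw [← permOf_step hk hk0, mul_assoc, ih _ h1 (h1.trans hk), P_gen_mul hC (step_mem k),
      smul_smul]
    exact M.smul_congr (by rw [h3, Nat.mod_mod]) _

theorem P_mul_k (hC : CaseSpec C) (he : Eig M C v) {k : ℕ} (hk : k < 144) {x : Perm (Fin 10)}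
    (hx : Perm.sign x = 1) : P M C v (x * permOf (kAt k)) = C.kap k • P M C v x := by
  rw [P, P, smul_sum]
  refine sum_congr rfl fun j hj => ?_
  have hj' := (rep_of_evenCode (dataSpec.kEven j (Finset.mem_range.1 hj))).2
  rw [← mul_assoc, M.mul _ _ (sign_mul_one hj' hx)
    (rep_of_evenCode (dataSpec.kEven k hk)).2, eig_all hC he k hk, map_nsmul, smul_comm]

/-- The norm of one of the subgroups. -/
noncomputable def Nm (M : AMod A) (i : ℕ) (a : A) : A :=
  ∑ x ∈ range (mLists.getD i []).length, M.ρ (permOf (mAt i x)) a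

theorem permOf_mAt_inj {i : ℕ} (hi : i < mGens.length) :
    Set.InjOn (fun x => permOf (mAt i x)) (range (mLists.getD i []).length : Finset ℕ) := by
  intro a ha b hb hab
  have ha' := Finset.mem_range.1 ha
  have hb' := Finset.mem_range.1 hb
  have hma := getD_mem (mLists.getD i []) 0 ha'
  have hmb := getD_mem (mLists.getD i []) 0 hb'
  have hda := (rep_of_evenCode (dataSpec.mEven i hi a ha')).1
  have hdb := (rep_of_evenCode (dataSpec.mEven i hi b hb')).1
  have hid : ∀ j < 10, dig 0x9876543210 j = j := by decide +kernel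
  have hcode : mAt i a = mAt i b := by
    rw [mAt, mAt, ← dataSpec.mCanon i hi _ hma, ← dataSpec.mCanon i hi _ hmb, comp, comp]
    refine congrArg horner (List.map_congr_left fun j hj => ?_)
    have hj' := List.mem_range.1 hj
    rw [hid j hj', ← mAt, ← mAt, hda ⟨j, hj'⟩, hdb ⟨j, hj'⟩]
    exact congrArg (fun σ : Perm (Fin 10) => (σ ⟨j, hj'⟩).val) hab
  rw [mAt, mAt, List.getD_eq_getElem _ _ ha', List.getD_eq_getElem _ _ hb'] at hcode
  exact (dataSpec.mNodup i hi).getElem_inj_iff.1 hcode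

theorem rho_gen_Nm {i : ℕ} (hi : i < mGens.length) {c : ℕ} (hc : evenCode c = true)
    (hcl : ∀ x ∈ mLists.getD i [], comp c x ∈ mLists.getD i []) (a : A) :
    M.ρ (permOf c) (Nm M i a) = Nm M i a := by
  classical
  set n := (mLists.getD i []).length with hn
  set S := (range n).image fun x => permOf (mAt i x) with hS
  have hNm : ∀ b, Nm M i b = ∑ σ ∈ S, M.ρ σ b := fun b => by
    rw [hS, sum_image (permOf_mAt_inj hi), Nm]
  have hmap : S.image (fun σ => permOf c * σ) = S := by
    refine eq_of_subset_of_card_le (fun σ hσ => ?_) ?_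
    · obtain ⟨τ, hτ, rfl⟩ := Finset.mem_image.1 hσ
      obtain ⟨x, hx, rfl⟩ := Finset.mem_image.1 hτ
      have hx' := Finset.mem_range.1 hx
      obtain ⟨y, hy, hye⟩ := exists_getD (d := 0) (hcl _ (getD_mem _ 0 hx'))
      refine Finset.mem_image.2 ⟨y, Finset.mem_range.2 hy, ?_⟩
      have h1 := (rep_of_evenCode hc).1.mul (rep_of_evenCode (dataSpec.mEven i hi x hx')).1
      rw [mAt, ← hye] at h1
      exact (rep_of_evenCode (dataSpec.mEven i hi y hy)).1.eq h1
    · rw [card_image_of_injective _ (mul_right_injective _)]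
  rw [hNm, map_sum]
  conv_rhs => rw [← hmap, sum_image (fun p _ q _ h => mul_left_cancel h)]
  refine sum_congr rfl fun σ hσ => ?_
  obtain ⟨x, hx, rfl⟩ := Finset.mem_image.1 hσ
  rw [M.mul _ _ (rep_of_evenCode hc).2
    (rep_of_evenCode (dataSpec.mEven i hi x (Finset.mem_range.1 hx))).2]

theorem Nm_eq_zero (hM : NoFix M) {i : ℕ} (hi : i < mGens.length) (a : A) : Nm M i a = 0 :=
  hM i hi _ (rho_gen_Nm hi (dataSpec.gEven i hi).1 (fun x hx => (dataSpec.mClosed i hi x hx).1) a)
    (rho_gen_Nm hi (dataSpec.gEven i hi).2 (fun x hx => (dataSpec.mClosed i hi x hx).2) a)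

theorem row_zero (hC : CaseSpec C) (hM : NoFix M) (he : Eig M C v) {G : Group}
    (hG : C.groupCheck G = true) {r : Row} (hr : r ∈ G.rows) :
    ∑ b ∈ range G.R.length, (C.kap (r.terms.getD b (0, 0, 0)).1 *
      C.kap (r.terms.getD b (0, 0, 0)).2.2) •
        P M C v (permOf (rAt (r.terms.getD b (0, 0, 0)).2.1)) = 0 := by
  classical
  simp only [Case.groupCheck, Bool.and_eq_true, List.all_eq_true, beq_iff_eq, decide_eq_true_eq,
    List.mem_range, bne_iff_ne, ne_eq] at hG
  obtain ⟨⟨⟨⟨⟨⟨⟨⟨⟨⟨⟨hmi, hg⟩, hT⟩, hR⟩, htl⟩, hT5⟩, htk⟩, hpl⟩, hcard⟩, hpnd⟩, hpos⟩, hrows⟩ := hG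
  obtain ⟨⟨⟨hi', hj'⟩, htl'⟩, hterms⟩ := hrows r hr
  set i := G.mi
  set h := permOf (bAt r.hi) * permOf (bAt r.hj) with hh
  have hhR : Rep (comp (bAt r.hi) (bAt r.hj)) h :=
    (rep_of_evenCode (dataSpec.bEven _ hi')).1.mul (rep_of_evenCode (dataSpec.bEven _ hj')).1
  have hhs : Perm.sign h = 1 := sign_mul_one (rep_of_evenCode (dataSpec.bEven _ hi')).2
    (rep_of_evenCode (dataSpec.bEven _ hj')).2
  have hm : ∀ x, x < (mLists.getD i []).length →
      Rep (mAt i x) (permOf (mAt i x)) ∧ Perm.sign (permOf (mAt i x)) = 1 :=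
    fun x hx => rep_of_evenCode (dataSpec.mEven i hmi x hx)
  set g := permOf G.g
  have hgs : Perm.sign g = 1 := (rep_of_evenCode hg).2
  have hTm : ∀ a < G.T.length, G.T.getD a 0 < (mLists.getD i []).length :=
    fun a ha => hT _ (getD_mem _ _ ha)
  have hRm : ∀ b < G.R.length, G.R.getD b 0 < (mLists.getD i []).length :=
    fun b hb => hR _ (getD_mem _ _ hb)
  -- apply the average to the vanishing norm
  have h0 : ∑ x ∈ range (mLists.getD i []).length, P M C v (g * permOf (mAt i x) * h) = 0 := by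
    have h1 := Nm_eq_zero hM hmi (M.ρ h v)
    have h2 : ∀ k ∈ range 144, ∑ x ∈ range (mLists.getD i []).length,
        (C.kap k ^ 3) • M.ρ (permOf (kAt k) * (g * permOf (mAt i x) * h)) v = 0 := by
      intro k hk
      have hks := (rep_of_evenCode (dataSpec.kEven k (Finset.mem_range.1 hk))).2
      rw [← smul_sum]
      have h3 : ∀ x ∈ range (mLists.getD i []).length,
          M.ρ (permOf (kAt k) * (g * permOf (mAt i x) * h)) v =
            M.ρ (permOf (kAt k) * g) (M.ρ (permOf (mAt i x)) (M.ρ h v)) := by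
        intro x hx
        have hxs := (hm x (Finset.mem_range.1 hx)).2
        rw [← M.mul _ _ hxs hhs, ← M.mul _ _ (sign_mul_one hks hgs) (sign_mul_one hxs hhs)]
        simp only [mul_assoc]
      rw [sum_congr rfl h3, ← map_sum, ← Nm, h1, map_zero, smul_zero]
    simp only [P]
    rw [sum_comm]
    exact sum_eq_zero h2
  -- split the subgroup along the cosets
  have hsplit : ∀ x < (mLists.getD i []).length, P M C v (g * permOf (mAt i x) * h) =
      P M C v (g * permOf (mAt i (G.R.getD (G.pos.getD x 0 % G.R.length) 0)) * h) := by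
    intro x hx
    obtain ⟨hp1, hp2⟩ := hpos x (hpl ▸ hx)
    set q := G.pos.getD x 0
    have hRpos : 0 < G.R.length := by
      rcases Nat.eq_zero_or_pos G.R.length with h | h
      · rw [h, mul_zero] at hcard; omega
      · exact h
    have hqa : q / G.R.length < G.T.length :=
      Nat.div_lt_of_lt_mul (by rw [mul_comm]; omega)
    have hqb : q % G.R.length < G.R.length := Nat.mod_lt _ hRpos
    set t := G.T.getD (q / G.R.length) 0
    set b := G.R.getD (q % G.R.length) 0
    have h1 := ((hm t (hTm _ hqa)).1.mul (hm b (hRm _ hqb)).1)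
    rw [hp2] at h1
    rw [(hm x hx).1.eq h1]
    obtain ⟨⟨hk1, hk2⟩, hk3⟩ := htk _ hqa
    have h4 := (rep_of_evenCode hg).1.mul (hm t (hTm _ hqa)).1
    rw [hk3] at h4
    have h5 := h4.eq ((rep_of_evenCode (dataSpec.kEven _ hk1)).1.mul (rep_of_evenCode hg).1)
    rw [show g * (permOf (mAt i t) * permOf (mAt i b)) * h =
        g * permOf (mAt i t) * (permOf (mAt i b) * h) by simp only [mul_assoc],
      h5, mul_assoc, P_k_mul hC _ hk1, hk2, one_smul, mul_assoc]
  rw [sum_congr rfl fun x hx => hsplit x (Finset.mem_range.1 hx)] at h0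
  set F := fun b => P M C v (g * permOf (mAt i (G.R.getD b 0)) * h) with hF
  have hinj : Set.InjOn (fun x => G.pos.getD x 0) (range G.pos.length : Finset ℕ) := by
    intro a ha b hb hab
    simp only [List.getD_eq_getElem _ _ (Finset.mem_range.1 ha),
      List.getD_eq_getElem _ _ (Finset.mem_range.1 hb)] at hab
    exact hpnd.getElem_inj_iff.1 hab
  have himg : (range G.pos.length).image (fun x => G.pos.getD x 0) =
      range (G.T.length * G.R.length) := by
    refine eq_of_subset_of_card_le (fun q hq => ?_) ?_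
    · obtain ⟨x, hx, rfl⟩ := Finset.mem_image.1 hq
      exact Finset.mem_range.2 (hcard ▸ (hpos x (Finset.mem_range.1 hx)).1)
    · rw [card_image_of_injOn hinj, hcard]
  have h6 : ∑ q ∈ range (G.T.length * G.R.length), F (q % G.R.length) = 0 := by
    rw [← himg, sum_image hinj, hpl]
    exact h0
  have h7 : ∀ n, ∑ q ∈ range (n * G.R.length), F (q % G.R.length) =
      n • ∑ b ∈ range G.R.length, F b := by
    intro n
    induction n with
    | zero => simp
    | succ n ih =>
      rw [Nat.succ_mul, sum_range_add, ih, succ_nsmul]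
      refine congrArg _ (sum_congr rfl fun b hb => ?_)
      rw [Nat.mul_comm n, Nat.mul_add_mod, Nat.mod_eq_of_lt (Finset.mem_range.1 hb)]
  rw [h7] at h6
  obtain ⟨u, hu⟩ : ∃ u, u * G.T.length % 5 = 1 := by
    obtain ⟨u, -, hu⟩ := Nat.exists_mul_mod_eq_one_of_coprime (k := 5) (n := G.T.length)
      (((Nat.Prime.coprime_iff_not_dvd (by norm_num)).2 (by omega)).symm) (by norm_num)
    exact ⟨u, by rw [mul_comm]; exact hu⟩
  have h8 : ∑ b ∈ range G.R.length, F b = 0 := by
    rw [← one_smul ℕ (∑ b ∈ range G.R.length, F b),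
      M.smul_congr (show (1 : ℕ) % 5 = (u * G.T.length) % 5 by omega), mul_smul, h6, smul_zero]
  rw [← h8]
  refine sum_congr rfl fun b hb => ?_
  have hb' := Finset.mem_range.1 hb
  obtain ⟨⟨⟨ht1, ht2⟩, ht3⟩, ht4⟩ := hterms b hb'
  set t := r.terms.getD b (0, 0, 0)
  have hk1 := rep_of_evenCode (dataSpec.kEven _ ht1)
  have hk3 := rep_of_evenCode (dataSpec.kEven _ ht3)
  have hr2 := rep_of_evenCode (dataSpec.rEven _ ht2)
  have h9 := (rep_of_evenCode hg).1.mul ((hm _ (hRm b hb')).1.mul hhR)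
  rw [ht4] at h9
  rw [hF]
  simp only
  rw [mul_assoc, h9.eq ((hk1.1.mul hr2.1).mul hk3.1), mul_assoc, P_k_mul hC _ ht1,
    P_mul_k hC he ht3 hr2.2, smul_smul]

/-- A certificate excludes semi-invariant vectors. -/
theorem eig_zero (hcheck : C.check = true) (hM : NoFix M) (he : Eig M C v) : v = 0 := by
  classical
  have hC := caseSpec hcheck
  set X := fun o => P M C v (permOf (rAt o)) with hX
  have hsum : (C.contrib.map fun e => e.1 • X e.2).sum = 0 := by
    have hrow : ∀ G ∈ C.groups, ∀ r ∈ G.rows,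
        (r.terms.map fun t => (r.coef * C.kap t.1 * C.kap t.2.2 % 5) • X t.2.1).sum = 0 := by
      intro G hG r hr
      have h1 := row_zero hC hM he (hC.groups G hG) hr
      have hlen : r.terms.length = G.R.length := by
        have h := hC.groups G hG
        simp only [Case.groupCheck, Bool.and_eq_true, List.all_eq_true, beq_iff_eq] at h
        exact (h.2 r hr).1.2
      have h2 : (r.terms.map fun t => (r.coef * C.kap t.1 * C.kap t.2.2 % 5) • X t.2.1).sum =
          r.coef • ∑ b ∈ range r.terms.length, (C.kap (r.terms.getD b (0, 0, 0)).1 *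
            C.kap (r.terms.getD b (0, 0, 0)).2.2) • X (r.terms.getD b (0, 0, 0)).2.1 := by
        rw [smul_sum, ← Fin.sum_univ_fun_getElem, ← Fin.sum_univ_eq_sum_range
          (fun b => r.coef • ((C.kap (r.terms.getD b (0, 0, 0)).1 *
            C.kap (r.terms.getD b (0, 0, 0)).2.2) • X (r.terms.getD b (0, 0, 0)).2.1))]
        refine sum_congr rfl fun b _ => ?_
        rw [List.getD_eq_getElem _ _ b.isLt, smul_smul, ← mul_assoc, M.smul_mod]
      rw [h2, hlen, h1, smul_zero]
    rw [Case.contrib, List.map_flatMap, List.flatMap_def, List.sum_flatten, List.map_map]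
    refine List.sum_eq_zero fun y hy => ?_
    obtain ⟨G, hG, rfl⟩ := List.mem_map.1 hy
    rw [Function.comp_apply, List.map_flatMap, List.flatMap_def, List.sum_flatten, List.map_map]
    refine List.sum_eq_zero fun y hy => ?_
    obtain ⟨r, hr, rfl⟩ := List.mem_map.1 hy
    rw [Function.comp_apply, List.map_map]
    exact hrow G hG r hr
  -- dead orbits vanish
  have hdead : ∀ d ∈ C.dead, X d.1 = 0 := by
    intro d hd
    obtain ⟨h1, h2, h3, h4, h5, -⟩ := hC.dead d hd
    have hk := rep_of_evenCode (dataSpec.kEven _ h2)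
    have hk' := rep_of_evenCode (dataSpec.kEven _ h3)
    have hr := rep_of_evenCode (dataSpec.rEven _ h1)
    have h6 := hk.1.mul hr.1
    rw [h4] at h6
    have h7 := P_k_mul (M := M) (v := v) hC _ h2 (permOf (rAt d.1))
    rw [h6.eq (hr.1.mul hk'.1), P_mul_k hC he h3 hr.2] at h7
    have hlt : ∀ k, C.kap k < 5 := fun k => Nat.mod_lt _ (by norm_num)
    have key : ∀ a b : ℕ, a < b → b < 5 → a • X d.1 = b • X d.1 → X d.1 = 0 := by
      intro a b hab hb hh
      have h9 : (b - a) • X d.1 = 0 := by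
        have : (b - a) • X d.1 + a • X d.1 = a • X d.1 := by
          rw [← add_smul, Nat.sub_add_cancel hab.le, hh]
        exact left_eq_add.1 (by rw [add_comm]; exact this.symm)
      obtain ⟨u, hu⟩ : ∃ u, u * (b - a) % 5 = 1 := by
        obtain ⟨n, hn1, hn2⟩ : ∃ n, b - a = n ∧ 0 < n ∧ n < 5 := ⟨_, rfl, by omega⟩
        rw [hn1]
        obtain ⟨h, h'⟩ := hn2
        interval_cases n
        exacts [⟨1, rfl⟩, ⟨3, rfl⟩, ⟨2, rfl⟩, ⟨4, rfl⟩]
      rw [← one_smul ℕ (X d.1), M.smul_congr (show (1 : ℕ) % 5 = (u * (b - a)) % 5 by omega),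
        mul_smul, h9, smul_zero]
    rcases lt_or_gt_of_ne h5 with h | h
    · exact key _ _ h (hlt _) h7.symm
    · exact key _ _ h (hlt _) h7
  -- group the terms by orbit
  have hfib : ∀ L : List (ℕ × ℕ), (∀ e ∈ L, e.2 < rCodes.length) →
      (L.map fun e => e.1 • X e.2).sum =
        ∑ o ∈ range rCodes.length, ((L.filter fun e => e.2 == o).map Prod.fst).sum • X o := by
    intro L
    induction L with
    | nil => simp
    | cons e L ih =>
      intro hL
      have he2 : e.2 ∈ range rCodes.length := Finset.mem_range.2 (hL e List.mem_cons_self)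
      rw [List.map_cons, List.sum_cons, ih fun f hf => hL f (List.mem_cons_of_mem _ hf)]
      have hsplit : ∀ o, (((e :: L).filter fun e => e.2 == o).map Prod.fst).sum • X o =
          (if e.2 = o then e.1 • X o else 0) +
            ((L.filter fun e => e.2 == o).map Prod.fst).sum • X o := by
        intro o
        by_cases h : e.2 = o
        · rw [List.filter_cons_of_pos (by simpa using h), List.map_cons, List.sum_cons, add_smul,
            if_pos h]
        · rw [List.filter_cons_of_neg (by simpa using h), if_neg h, zero_add]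
      rw [sum_congr rfl fun o _ => hsplit o, sum_add_distrib, sum_ite_eq, if_pos he2]
  have hbound : ∀ e ∈ C.contrib, e.2 < rCodes.length := by
    intro e he'
    simp only [Case.contrib, List.mem_flatMap, List.mem_map] at he'
    obtain ⟨G, hG, r, hr, t, ht, rfl⟩ := he'
    have h := hC.groups G hG
    simp only [Case.groupCheck, Bool.and_eq_true, List.all_eq_true, beq_iff_eq,
      decide_eq_true_eq, List.mem_range] at h
    obtain ⟨⟨-, hlen⟩, hterms⟩ := h.2 r hr
    obtain ⟨b, hb, rfl⟩ := exists_getD (d := (0, 0, 0)) ht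
    exact (hterms b (hlen ▸ hb)).1.1.2
  rw [hfib _ hbound] at hsum
  have hone : ∑ o ∈ range rCodes.length,
      ((C.contrib.filter fun e => e.2 == o).map Prod.fst).sum • X o = X 0 := by
    rw [sum_eq_single 0]
    · rcases hC.total 0 dataSpec.rPos with ⟨d, hd, h0⟩ | h
      · exact absurd h0 (hC.dead d hd).2.2.2.2.2
      · rw [if_pos rfl] at h
        rw [M.smul_congr (m := 1) (by omega), one_smul]
    · intro o ho ho0
      rcases hC.total o (Finset.mem_range.1 ho) with ⟨d, hd, rfl⟩ | h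
      · rw [hdead d hd, smul_zero]
      · rw [if_neg ho0] at h
        rw [M.smul_congr (m := 0) (by omega), zero_smul]
    · intro h
      exact absurd (Finset.mem_range.2 dataSpec.rPos) h
  rw [hone] at hsum
  have hX0 : X 0 = 144 • v := by
    rw [hX]
    simp only
    rw [← dataSpec.rZero, kOne_perm, P]
    have : ∀ k ∈ range 144, (C.kap k ^ 3) • M.ρ (permOf (kAt k) * 1) v = v := by
      intro k hk
      rw [mul_one, eig_all hC he k (Finset.mem_range.1 hk), smul_smul, ← pow_succ,
        M.smul_congr (m := 1) (by rw [hC.four k (Finset.mem_range.1 hk)]), one_smul]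
    rw [sum_congr rfl this, sum_const, card_range]
  rw [hX0, M.smul_congr (m := 4) (by norm_num)] at hsum
  have h5 := M.five v
  rw [show (5 : ℕ) = 4 + 1 from rfl, add_smul, hsum, zero_add, one_smul] at h5
  exact h5

end CfsgLib.AltCent.Hecke
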